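import Cfsg.Agent.H135.TwoGen
import Cfsg.Agent.H70.OutCount
import Cfsg.Agent.H135.TwoGenTab
import Cfsg.Agent.H69.OutGF
import Cfsg.Agent.LieRecognition.FieldSemilinear
import Cfsg.Agent.FastGrp
import Cfsg.Agent.Prune
set_option linter.all false
prune_inst 0x7f00000000000000000000000000000000000000000000000000000000000000000000000000000000000000000000000000000000000000000000000000000000000000000000000000000000000000003fffffffffffffffffffffffffffbeffbdffffffff
open scoped Cfsg.Agent.FastGrp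

-- part: H95/DG/Mono
section
/-!
# Twisted Steinberg pairs in `Aut` of an (untwisted, tabulated) Chevalley group (helper95)

General tools, for all `D` in the list, `K = D.group F`:

* `IsMono hD Y B c τ` : the automorphism `Y` maps `x_r(t)` to `x_{B r}(c_r τ_r(t))`;
  `IsDiag hD H χ` : the automorphism `H` maps `x_r(t)` to `x_r(χ_r t)`;
* `top_of_run` : closure steps (`H135.TwoG.run`) for a subgroup of `K` closed under `B`;
* `range_le_of_pair` : `Inn K ≤ ⟨H, conj (x_a(1)) Y⟩`, `H` diagonal, `Y` monomial;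
* `range_le_of_pair'` : `Inn K ≤ ⟨H conj (x_b(1)), conj (x_a(1)) Y⟩`;
* `isMono_word`, `isMono_field`, `IsMono.mul` : the monomial automorphisms.
-/

set_option autoImplicit false

namespace Cfsg.Agent.H95.DG.Mono

open Cfsg Cfsg.Lie Cfsg.Agent.ChevalleyStructure.Elts Cfsg.Agent.Schreier.ChevLocal
open Cfsg.Agent.H70.ChevFix Cfsg.Agent.H70.ChevField Cfsg.Agent.H70.OutCount Cfsg.Agent.H135.TwoG

universe u

variable {F : Type u} [Field F] {D : ChevalleyDatum}

/-! ### monomial automorphisms -/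

/-- `Y` maps `x_r(t)` to `x_{B r}(c_r τ_r(t))` -/
structure IsMono (hD : InList D) (Y : MulAut ↥(D.group F)) (B : ℕ → ℕ) (c : ℕ → F) (τ : ℕ → (F ≃+* F)) : Prop where
  lt : ∀ r < D.nroots, B r < D.nroots
  surj : ∀ r < D.nroots, ∃ s < D.nroots, B s = r
  ne : ∀ r < D.nroots, c r ≠ 0
  val : ∀ r < D.nroots, ∀ t : F, Y (xe hD r t) = xe hD (B r) (c r * τ r t)

/-- `H` maps `x_r(t)` to `x_r(χ_r t)` -/
structure IsDiag (hD : InList D) (H : MulAut ↥(D.group F)) (χ : ℕ → F) : Prop where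
  ne : ∀ r < D.nroots, χ r ≠ 0
  val : ∀ r < D.nroots, ∀ t : F, H (xe hD r t) = xe hD r (χ r * t)

theorem IsMono.mul {hD : InList D} {Y Y' : MulAut ↥(D.group F)} {B B' : ℕ → ℕ} {c c' : ℕ → F}
    {τ τ' : ℕ → (F ≃+* F)} (h : IsMono hD Y B c τ) (h' : IsMono hD Y' B' c' τ') :
    IsMono hD (Y * Y') (fun r => B (B' r)) (fun r => c (B' r) * τ (B' r) (c' r))
      (fun r => (τ' r).trans (τ (B' r))) where
  lt r hr := h.lt _ (h'.lt r hr)
  surj r hr := by
    obtain ⟨s, hs, rfl⟩ := h.surj r hr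
    obtain ⟨s', hs', rfl⟩ := h'.surj s hs
    exact ⟨s', hs', rfl⟩
  ne r hr := mul_ne_zero (h.ne _ (h'.lt r hr)) ((map_ne_zero_iff _ (τ (B' r)).injective).2 (h'.ne r hr))
  val r hr t := by
    rw [MulAut.mul_apply, h'.val r hr, h.val _ (h'.lt r hr), map_mul, mul_assoc]
    rfl

theorem isMono_field {hD : InList D} {α : MulAut ↥(D.group F)} {τ : F ≃+* F}
    (h : ∀ r < D.nroots, ∀ t : F, α (xe hD r t) = xe hD r (τ t)) :
    IsMono hD α (fun r => r) (fun _ => 1) (fun _ => τ) where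
  lt _ hr := hr
  surj r hr := ⟨r, hr, rfl⟩
  ne _ _ := one_ne_zero
  val r hr t := by rw [h r hr, one_mul]

theorem IsDiag.mono {hD : InList D} {H : MulAut ↥(D.group F)} {χ : ℕ → F} (h : IsDiag hD H χ) :
    IsMono hD H (fun r => r) χ (fun _ => RingEquiv.refl F) where
  lt _ hr := hr
  surj r hr := ⟨r, hr, rfl⟩
  ne r hr := h.ne r hr
  val r hr t := h.val r hr t

theorem wact_surj (hD : InList D) {l : List ℕ} (hl : ∀ i ∈ l, i < D.rank) :
    ∀ r < D.nroots, ∃ s < D.nroots, wact D l s = r := by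
  induction l with
  | nil => intro r hr; exact ⟨r, hr, rfl⟩
  | cons i l ih =>
    intro r hr
    have hi := hl i List.mem_cons_self
    obtain ⟨s, hs, e⟩ := ih (fun j hj => hl j (List.mem_cons_of_mem _ hj)) _
      (Cfsg.Agent.ChevalleyStructure.Reach.reflect_lt hD hi hr)
    refine ⟨s, hs, ?_⟩
    show D.reflectRoot i (wact D l s) = r
    rw [e, Cfsg.Agent.ChevalleyStructure.Reach.reflect_reflect hD hi hr]

/-- the word, as an element of the group -/
def we (hD : InList D) (F : Type u) [Field F] (l : List ℕ) : ↥(D.group F) := ⟨wG hD F l, wG_mem_group hD l⟩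

/-- conjugation by a word in the simple `n`'s is monomial -/
theorem isMono_word (hD : InList D) {l : List ℕ} (hl : ∀ i ∈ l, i < D.rank) {W : ℕ → ℕ}
    (hW : ∀ s < D.nroots, W s = wact D l s) :
    ∃ c : ℕ → F, (∀ r < D.nroots, c r = 1 ∨ c r = -1) ∧
      IsMono hD (MulAut.conj (we hD F l)) W c (fun _ => RingEquiv.refl F) := by
  classical
  have h1 : ∀ r : ℕ, ∃ c : F, r < D.nroots → ((c = 1 ∨ c = -1) ∧
      ∀ t : F, wG hD F l * xG hD r t * (wG hD F l)⁻¹ = xG hD (wact D l r) (c * t)) := by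
    intro r
    by_cases hr : r < D.nroots
    · obtain ⟨η, hη, h⟩ := wG_conj (F := F) hD hl hr
      exact ⟨η, fun _ => ⟨hη, h⟩⟩
    · exact ⟨0, fun h => absurd h hr⟩
  choose c hc using h1
  refine ⟨c, fun r hr => (hc r hr).1, ?_⟩
  refine ⟨fun r hr => ?_, fun r hr => ?_, fun r hr => ?_, fun r hr t => ?_⟩
  · rw [hW r hr]; exact wact_lt hD hl hr
  · obtain ⟨s, hs, e⟩ := wact_surj hD hl r hr
    exact ⟨s, hs, by rw [hW s hs, e]⟩
  · rcases (hc r hr).1 with h | h <;> rw [h]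
    · exact one_ne_zero
    · exact neg_ne_zero.2 one_ne_zero
  · rw [hW r hr, MulAut.conj_apply]
    exact Subtype.ext ((hc r hr).2 t)

/-- conjugation by `h_{p_i}(k)` is diagonal -/
theorem isDiag_he (hD : InList D) {i : ℕ} (hi : i < D.rank) (k : Fˣ) :
    IsDiag hD (MulAut.conj (he hD (D.simple i) (k : F))) (fun r => (k : F) ^ D.cartan i r) where
  ne r _ := zpow_ne_zero _ k.ne_zero
  val r hr t := by rw [MulAut.conj_apply, he_conj hD hi hr k.ne_zero]

/-- diagonal automorphisms commute -/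
theorem IsDiag.comm {hD : InList D} {H H' : MulAut ↥(D.group F)} {χ χ' : ℕ → F} (h : IsDiag hD H χ)
    (h' : IsDiag hD H' χ') : H * H' = H' * H := by
  apply ext_values hD
  · intro i t
    have hi := Cfsg.Agent.S1042.simple_lt hD i.2
    rw [MulAut.mul_apply, MulAut.mul_apply, h'.val _ hi, h.val _ hi, h.val _ hi, h'.val _ hi]
    congr 1; ring
  · intro i t
    have hi : D.neg (D.simple i) < D.nroots := neg_simple_lt hD i.2
    rw [MulAut.mul_apply, MulAut.mul_apply, h'.val _ hi, h.val _ hi, h.val _ hi, h'.val _ hi]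
    congr 1; ring

/-- a conjugate of a diagonal automorphism under a monomial one -/
theorem IsDiag.conj_mono {hD : InList D} {H Y : MulAut ↥(D.group F)} {χ : ℕ → F} (h : IsDiag hD H χ) {B : ℕ → ℕ}
    {c : ℕ → F} {τ : ℕ → (F ≃+* F)} (hY : IsMono hD Y B c τ) {s : ℕ} (hs : s < D.nroots) (t : F) :
    (Y * H * Y⁻¹) (xe hD (B s) t) = xe hD (B s) (τ s (χ s) * t) := by
  have e : Y⁻¹ (xe hD (B s) t) = xe hD s ((τ s).symm ((c s)⁻¹ * t)) := by
    rw [MulAut.inv_def, MulEquiv.symm_apply_eq, hY.val s hs, RingEquiv.apply_symm_apply,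
      mul_inv_cancel_left₀ (hY.ne s hs)]
  rw [MulAut.mul_apply, MulAut.mul_apply, e, h.val s hs, hY.val s hs, map_mul, RingEquiv.apply_symm_apply]
  congr 1
  have := hY.ne s hs
  field_simp

theorem IsDiag.conj_mono' {hD : InList D} {H Y : MulAut ↥(D.group F)} {χ : ℕ → F} (h : IsDiag hD H χ) {B : ℕ → ℕ}
    {c : ℕ → F} {τ : ℕ → (F ≃+* F)} (hY : IsMono hD Y B c τ) :
    ∃ χ' : ℕ → F, IsDiag hD (Y * H * Y⁻¹) χ' := by
  classical
  have h1 : ∀ r : ℕ, ∃ x : F, r < D.nroots → x ≠ 0 ∧ ∀ t : F, (Y * H * Y⁻¹) (xe hD r t) = xe hD r (x * t) := by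
    intro r
    by_cases hr : r < D.nroots
    · obtain ⟨s, hs, rfl⟩ := hY.surj r hr
      exact ⟨τ s (χ s), fun _ => ⟨(map_ne_zero_iff _ (τ s).injective).2 (h.ne s hs), h.conj_mono hY hs⟩⟩
    · exact ⟨0, fun h => absurd h hr⟩
  choose χ' hχ' using h1
  exact ⟨χ', ⟨fun r hr => (hχ' r hr).1, fun r hr => (hχ' r hr).2⟩⟩

/-! ### closure steps -/

/-- `Has` inside the group -/
theorem has_map {hD : InList D} {M : Subgroup ↥(D.group F)} {r : ℕ} :
    Has hD (M.map (D.group F).subtype) r ↔ ∀ t : F, xe hD r t ∈ M := by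
  constructor
  · intro h t
    obtain ⟨x, hx, hx'⟩ := h t
    have : x = xe hD r t := Subtype.ext hx'
    exact this ▸ hx
  · intro h t
    exact ⟨_, h t, rfl⟩

theorem step_sound {hD : InList D} {M : Subgroup (GL D.Idx F)} {W : ℕ → ℕ}
    (hrot : ∀ s < D.nroots, Has hD M s → Has hD M (W s)) {S : ℕ} (hS : ∀ k, Nat.testBit S k = true → Has hD M k)
    (p : ℕ × ℕ) : ∀ k, Nat.testBit (step D W S p) k = true → Has hD M k := by
  intro k hk
  unfold step at hk
  split_ifs at hk with h1 h2 h3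
  · rcases testBit_insert hk with h | rfl
    · exact hS k h
    · exact hrot _ h2.2 (hS _ h2.1)
  · exact hS k hk
  · obtain ⟨ha, hb, hr, hs, hneg⟩ := h3
    split at hk
    · rename_i e he
      split_ifs at hk with hg
      · rcases testBit_insert hk with h | rfl
        · exact hS k h
        · intro v
          obtain ⟨t, u, rfl⟩ := good_spec (F := F) hg v
          have hm := comm_mem hD hr hs (Ne.symm h1) hneg (t := t) (u := u) (hS _ ha t) (hS _ hb u)
          exact mem_of_filter hD (P := fun k => Nat.testBit S k) hS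
            (fun c : ℤ × ℕ × ℕ => (c.1 : F) * (-t) ^ c.2.1 * u ^ c.2.2) _ he hm
      · exact hS k hk
    · exact hS k hk
  · exact hS k hk

theorem run_sound {hD : InList D} {M : Subgroup (GL D.Idx F)} {W : ℕ → ℕ}
    (hrot : ∀ s < D.nroots, Has hD M s → Has hD M (W s)) (steps : List (ℕ × ℕ)) :
    ∀ {S : ℕ} (_ : ∀ k, Nat.testBit S k = true → Has hD M k),
      ∀ k, Nat.testBit (run D W S steps) k = true → Has hD M k := by
  induction steps with
  | nil => intro S hS; exact hS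
  | cons p steps ih =>
    intro S hS
    exact ih (step_sound hrot hS p)

/-- A subgroup of `K` containing the root groups of `S`, closed under `W`, is the whole group if the closure steps reach
all roots. -/
theorem top_of_run {hD : InList D} {M : Subgroup ↥(D.group F)} {W : ℕ → ℕ}
    (hrot : ∀ s < D.nroots, (∀ t : F, xe hD s t ∈ M) → ∀ t : F, xe hD (W s) t ∈ M) {S : ℕ}
    (hS : ∀ k, Nat.testBit S k = true → ∀ t : F, xe hD k t ∈ M) {steps : List (ℕ × ℕ)}
    (h : run D W S steps = 2 ^ D.nroots - 1) : M = ⊤ := by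
  have hle : D.group F ≤ M.map (D.group F).subtype := by
    rw [group_le_iff hD]
    intro r hr
    refine run_sound (hD := hD) (W := W) (fun s hs h1 => has_map.2 (hrot s hs (has_map.1 h1))) steps
      (S := S) (fun k hk => has_map.2 (hS k hk)) r ?_
    rw [h, Nat.testBit_two_pow_sub_one]
    exact decide_eq_true hr
  rw [eq_top_iff]
  intro x _
  obtain ⟨y, hy, hy'⟩ := hle x.2
  have : y = x := Subtype.ext hy'
  exact this ▸ hy

/-- The same for a subgroup of `Aut K` containing a monomial automorphism `Y`. -/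
theorem range_le_of_run {hD : InList D} {M : Subgroup (MulAut ↥(D.group F))} {Y : MulAut ↥(D.group F)} {B : ℕ → ℕ}
    {c : ℕ → F} {τ : ℕ → (F ≃+* F)} (hY : IsMono hD Y B c τ) (hYM : Y ∈ M) {S : ℕ}
    (hS : ∀ k, Nat.testBit S k = true → ∀ t : F, MulAut.conj (xe hD k t) ∈ M) {steps : List (ℕ × ℕ)}
    (h : run D B S steps = 2 ^ D.nroots - 1) :
    (MulAut.conj : ↥(D.group F) →* MulAut ↥(D.group F)).range ≤ M := by
  have htop : M.comap MulAut.conj = ⊤ := by
    refine top_of_run (hD := hD) (W := B) (S := S) (steps := steps) ?_ hS h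
    intro s hs h1 t
    show MulAut.conj (xe hD (B s) t) ∈ M
    have e : xe hD (B s) t = Y (xe hD s ((τ s).symm ((c s)⁻¹ * t))) := by
      rw [hY.val s hs, RingEquiv.apply_symm_apply, mul_inv_cancel_left₀ (hY.ne s hs)]
    have e2 : MulAut.conj (xe hD (B s) t) = Y * MulAut.conj (xe hD s ((τ s).symm ((c s)⁻¹ * t))) * Y⁻¹ := by
      rw [e]
      ext x : 1
      simp only [MulAut.mul_apply, MulAut.conj_apply, map_mul, map_inv, MulAut.apply_inv_self]
    rw [e2]
    exact M.mul_mem (M.mul_mem hYM (h1 _)) (M.inv_mem hYM)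
  rintro _ ⟨g, rfl⟩
  have : g ∈ M.comap MulAut.conj := by rw [htop]; exact Subgroup.mem_top g
  exact this

/-! ### the torus trick -/

/-- the coefficients -/
def cf (hD : InList D) (M : Subgroup (MulAut ↥(D.group F))) (r : ℕ) : AddSubgroup F where
  carrier := {t | MulAut.conj (xe hD r t) ∈ M}
  zero_mem' := by
    show MulAut.conj (xe hD r 0) ∈ M
    rw [xe_zero, map_one]; exact M.one_mem
  add_mem' := by
    intro a b ha hb
    show MulAut.conj (xe hD r (a + b)) ∈ M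
    rw [xe_add, map_mul]; exact M.mul_mem ha hb
  neg_mem' := by
    intro a ha
    show MulAut.conj (xe hD r (-a)) ∈ M
    rw [xe_neg, map_inv]; exact M.inv_mem ha

/-- multiplication by `x` is irreducible on `F` -/
def Irr (x : F) : Prop := ∀ A : AddSubgroup F, (∀ t ∈ A, x * t ∈ A) → A = ⊥ ∨ A = ⊤

theorem conj_conj {G : Type*} [Group G] (Y : MulAut G) (x : G) : Y * MulAut.conj x * Y⁻¹ = MulAut.conj (Y x) := by
  ext y : 1
  simp only [MulAut.mul_apply, MulAut.conj_apply, map_mul, map_inv, MulAut.apply_inv_self]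

/-- **The torus trick in `Aut K`.** -/
theorem trick {hD : InList D} {H Y : MulAut ↥(D.group F)} {χ : ℕ → F} (hH : IsDiag hD H χ) {B : ℕ → ℕ} {c : ℕ → F}
    {τ : ℕ → (F ≃+* F)} (hY : IsMono hD Y B c τ) {a' : ℕ} (ha' : a' < D.nroots) (irr : Irr (χ (B a')))
    (h1 : χ (B a') ≠ 1) (h2 : χ a' ≠ 1) {M : Subgroup (MulAut ↥(D.group F))} (hHM : H ∈ M)
    (hYM : MulAut.conj (xe hD (B a') (1 : F)) * Y ∈ M) : (∀ t : F, MulAut.conj (xe hD (B a') t) ∈ M) ∧ Y ∈ M := by
  set a := B a' with ha0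
  have ha : a < D.nroots := hY.lt _ ha'
  set X : Subgroup (MulAut ↥(D.group F)) := (XX D F a).map MulAut.conj with hX
  have memX : ∀ x : MulAut ↥(D.group F), x ∈ X ↔ ∃ t : F, x = MulAut.conj (xe hD a t) := by
    intro x
    rw [hX, Subgroup.mem_map]
    constructor
    · rintro ⟨g, hg, rfl⟩
      obtain ⟨t, rfl⟩ := (mem_XX hD).1 hg
      exact ⟨t, rfl⟩
    · rintro ⟨t, rfl⟩
      exact ⟨_, (mem_XX hD).2 ⟨t, rfl⟩, rfl⟩
  have hinj := _root_.Cfsg.Agent.H70.OutCount.conj_injective (F := F) hD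
  have hHx : ∀ t : F, H * MulAut.conj (xe hD a t) * H⁻¹ = MulAut.conj (xe hD a (χ a * t)) := by
    intro t
    rw [conj_conj, hH.val a ha]
  have h1x : ∀ t : F, (Y * H * Y⁻¹) * MulAut.conj (xe hD a t) * (Y * H * Y⁻¹)⁻¹ =
      MulAut.conj (xe hD a (τ a' (χ a') * t)) := by
    intro t
    rw [conj_conj, hH.conj_mono hY ha']
  set y := τ a' (χ a') with hy
  have hy0 : y ≠ 0 := (map_ne_zero_iff _ (τ a').injective).2 (hH.ne a' ha')
  have hy1 : y ≠ 1 := by
    intro h
    apply h2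
    apply (τ a').injective
    rw [map_one]; exact h
  have h1x' : ∀ t : F, (Y * H * Y⁻¹)⁻¹ * MulAut.conj (xe hD a t) * (Y * H * Y⁻¹) =
      MulAut.conj (xe hD a (y⁻¹ * t)) := by
    intro t
    have h := h1x (y⁻¹ * t)
    rw [mul_inv_cancel_left₀ hy0] at h
    rw [← h]; group
  obtain ⟨χ', hχ'⟩ := hH.conj_mono' hY
  have key := Cfsg.Agent.H136.TwoGen.torus_trick M X (h := H) (w := Y) (u := MulAut.conj (xe hD a (1 : F))) hHM hYM
    ((memX _).2 ⟨1, rfl⟩) ?_ ?_ ?_ ?_ ?_ (hH.comm hχ') ?_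
  · exact ⟨fun t => key.1 ((memX _).2 ⟨t, rfl⟩), key.2⟩
  · intro x hx
    obtain ⟨t, rfl⟩ := (memX x).1 hx
    rw [h1x]
    exact (memX _).2 ⟨_, rfl⟩
  · intro x hx
    obtain ⟨t, rfl⟩ := (memX x).1 hx
    rw [h1x']
    exact (memX _).2 ⟨_, rfl⟩
  · intro Z hZX hZ
    have hA := irr (cf hD Z a) (by
      intro t ht
      show MulAut.conj (xe hD a (χ a * t)) ∈ Z
      rw [← hHx]
      exact hZ _ ht)
    rcases hA with hA | hA
    · left
      rw [eq_bot_iff]
      intro z hz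
      obtain ⟨t, rfl⟩ := (memX z).1 (hZX hz)
      have : t ∈ cf hD Z a := hz
      rw [hA, AddSubgroup.mem_bot] at this
      rw [this, xe_zero, map_one]
      exact Subgroup.one_mem _
    · right
      refine le_antisymm hZX ?_
      intro z hz
      obtain ⟨t, rfl⟩ := (memX z).1 hz
      have : t ∈ cf hD Z a := by rw [hA]; exact AddSubgroup.mem_top t
      exact this
  · refine ⟨MulAut.conj (xe hD a 1), (memX _).2 ⟨1, rfl⟩, fun h => ?_⟩
    have h3 := hHx 1
    rw [h, mul_inv_cancel_right, mul_one] at h3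
    exact h1 (xe_inj hD ha (hinj h3)).symm
  · intro x hx
    obtain ⟨t, rfl⟩ := (memX x).1 hx
    rw [hHx]
    exact (memX _).2 ⟨_, rfl⟩
  · intro h
    have h3 := h1x 1
    rw [h, mul_inv_cancel_right, mul_one] at h3
    exact hy1 (xe_inj hD ha (hinj h3)).symm

/-- **The pair `H, conj (x_a(1)) Y`** (`a = B a'`). -/
theorem range_le_of_pair {hD : InList D} {H Y : MulAut ↥(D.group F)} {χ : ℕ → F} (hH : IsDiag hD H χ) {B : ℕ → ℕ}
    {c : ℕ → F} {τ : ℕ → (F ≃+* F)} (hY : IsMono hD Y B c τ) {a a' : ℕ} (ha' : a' < D.nroots) (ha : B a' = a)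
    (irr : Irr (χ a)) (h1 : χ a ≠ 1) (h2 : χ a' ≠ 1) {steps : List (ℕ × ℕ)}
    (hrun : run D B (1 <<< a) steps = 2 ^ D.nroots - 1) {M : Subgroup (MulAut ↥(D.group F))} (hHM : H ∈ M)
    (hYM : MulAut.conj (xe hD a (1 : F)) * Y ∈ M) :
    (MulAut.conj : ↥(D.group F) →* MulAut ↥(D.group F)).range ≤ M := by
  subst ha
  obtain ⟨h3, h4⟩ := trick hH hY ha' irr h1 h2 hHM hYM
  refine range_le_of_run hY h4 (S := 1 <<< B a') (steps := steps) ?_ hrun
  intro k hk
  rw [Nat.one_shiftLeft, Nat.testBit_two_pow] at hk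
  have : B a' = k := by simpa using hk
  exact this ▸ h3

/-- **The pair `H conj (x_b(1)), conj (x_a(1)) Y`** (`a = B a'`, `b = B b'`), after `H` and `x_b(1)` are separated. -/
theorem range_le_of_pair' {hD : InList D} {H Y : MulAut ↥(D.group F)} {χ : ℕ → F} (hH : IsDiag hD H χ) {B : ℕ → ℕ}
    {c : ℕ → F} {τ : ℕ → (F ≃+* F)} (hY : IsMono hD Y B c τ) {a a' b b' : ℕ} (ha' : a' < D.nroots) (ha : B a' = a)
    (hb' : b' < D.nroots) (hb : B b' = b) (irr : Irr (χ a)) (h1 : χ a ≠ 1) (h2 : χ a' ≠ 1) (h3 : χ b = 1)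
    (irr' : Irr (χ b')) {N p : ℕ} (hN : H ^ N = 1) (hp : (p : F) = 0) (hco : Nat.Coprime N p)
    {steps : List (ℕ × ℕ)} (hrun : run D B ((1 <<< a) ||| (1 <<< b')) steps = 2 ^ D.nroots - 1)
    {M : Subgroup (MulAut ↥(D.group F))} (hHM : H * MulAut.conj (xe hD b (1 : F)) ∈ M)
    (hYM : MulAut.conj (xe hD a (1 : F)) * Y ∈ M) :
    (MulAut.conj : ↥(D.group F) →* MulAut ↥(D.group F)).range ≤ M := by
  subst ha
  subst hb
  have hbl := hY.lt _ hb'
  have hcomm : Commute H (MulAut.conj (xe hD (B b') (1 : F))) := by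
    have h := conj_conj H (xe hD (B b') (1 : F))
    rw [hH.val _ hbl, h3, one_mul] at h
    exact mul_inv_eq_iff_eq_mul.1 h
  have hxp : (MulAut.conj (xe hD (B b') (1 : F))) ^ p = 1 := by
    have h : ∀ n : ℕ, (xe hD (B b') (1 : F)) ^ n = xe hD (B b') (n : F) := by
      intro n
      induction n with
      | zero => rw [pow_zero, Nat.cast_zero, xe_zero]
      | succ n ih => rw [pow_succ, ih, Nat.cast_succ, xe_add]
    rw [← map_pow, h, hp, xe_zero, map_one]
  obtain ⟨hHM', hbM⟩ := mem_of_coprime hcomm hN hxp hco hHM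
  obtain ⟨h5, h6⟩ := trick hH hY ha' irr h1 h2 hHM' hYM
  -- the root group of `b'`
  have hb2 : ∃ v : F, v ≠ 0 ∧ MulAut.conj (xe hD b' v) ∈ M := by
    refine ⟨(τ b').symm (c b')⁻¹, ?_, ?_⟩
    · exact (map_ne_zero_iff _ (τ b').symm.injective).2 (inv_ne_zero (hY.ne b' hb'))
    · have e : Y (xe hD b' ((τ b').symm (c b')⁻¹)) = xe hD (B b') 1 := by
        rw [hY.val b' hb', RingEquiv.apply_symm_apply, mul_inv_cancel₀ (hY.ne b' hb')]
      have e2 : MulAut.conj (xe hD b' ((τ b').symm (c b')⁻¹)) = Y⁻¹ * MulAut.conj (xe hD (B b') 1) * Y := by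
        rw [← e, ← conj_conj Y]; group
      rw [e2]
      exact M.mul_mem (M.mul_mem (M.inv_mem h6) hbM) h6
  obtain ⟨v, hv0, hv⟩ := hb2
  have hcf : cf hD M b' = ⊤ := by
    rcases irr' (cf hD M b') (by
      intro t ht
      show MulAut.conj (xe hD b' (χ b' * t)) ∈ M
      rw [← hH.val b' hb', ← conj_conj]
      exact M.mul_mem (M.mul_mem hHM' ht) (M.inv_mem hHM')) with h | h
    · exfalso
      have : v ∈ cf hD M b' := hv
      rw [h, AddSubgroup.mem_bot] at this
      exact hv0 this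
    · exact h
  refine range_le_of_run hY h6 (S := (1 <<< B a') ||| (1 <<< b')) (steps := steps) ?_ hrun
  intro k hk
  rcases testBit_insert hk with h | rfl
  · rw [Nat.one_shiftLeft, Nat.testBit_two_pow] at h
    have : B a' = k := by simpa using h
    exact this ▸ h5
  · intro t
    have : t ∈ cf hD M k := by rw [hcf]; exact AddSubgroup.mem_top t
    exact this

/-! ### irreducibility -/

theorem irr_of_gen [Finite F] {k : Fˣ} (hk : ∀ x : Fˣ, x ∈ Subgroup.zpowers k) : Irr (k : F) := by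
  intro A hA
  apply Cfsg.Agent.H136.FieldLem.eq_bot_or_top hk
  intro a ha
  have := hA _ (hA _ ha)
  rwa [← mul_assoc, ← pow_two] at this

theorem irr_of_sq [Finite F] {k : Fˣ} (hk : ∀ x : Fˣ, x ∈ Subgroup.zpowers k) : Irr ((k : F) ^ 2) :=
  fun A hA => Cfsg.Agent.H136.FieldLem.eq_bot_or_top hk A hA

theorem Irr.inv [Finite F] {x : F} (h : Irr x) (hx : x ≠ 0) : Irr x⁻¹ := by
  intro A hA
  apply h
  intro t ht
  -- `x = (x⁻¹) ^ (n - 1)`
  have h1 : ∀ n : ℕ, (x⁻¹) ^ n * t ∈ A := by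
    intro n
    induction n with
    | zero => simpa using ht
    | succ n ih =>
      rw [pow_succ', mul_assoc]
      exact hA _ ih
  obtain ⟨n, hn, e⟩ := (isOfFinOrder_of_finite (Units.mk0 x hx)).exists_pow_eq_one
  have e' : x ^ n = 1 := by simpa using congrArg Units.val e
  have h2 := h1 (n - 1)
  have e2 : (x⁻¹) ^ (n - 1) = x := by
    rw [inv_pow]
    obtain ⟨m, rfl⟩ : ∃ m, n = m + 1 := ⟨n - 1, by omega⟩
    rw [Nat.add_sub_cancel]
    rw [pow_succ] at e'
    exact inv_eq_of_mul_eq_one_right e'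
  rwa [e2] at h2

theorem irr_zpow [Finite F] {k : Fˣ} (hk : ∀ x : Fˣ, x ∈ Subgroup.zpowers k) {n : ℤ}
    (hn : n = 1 ∨ n = 2 ∨ n = -1 ∨ n = -2) : Irr ((k : F) ^ n) := by
  rcases hn with rfl | rfl | rfl | rfl
  · rw [zpow_one]; exact irr_of_gen hk
  · exact_mod_cast irr_of_sq hk
  · rw [zpow_neg, zpow_one]; exact (irr_of_gen hk).inv k.ne_zero
  · rw [zpow_neg]
    have h : (k : F) ^ (2 : ℤ) = (k : F) ^ 2 := by exact_mod_cast rfl
    rw [h]
    exact (irr_of_sq hk).inv (pow_ne_zero _ k.ne_zero)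

end Cfsg.Agent.H95.DG.Mono
end

-- part: H95/DG/F4
section
/-!
# The automorphisms of `F₄(q)`, and pairs generating `Inn` (helper95)

* `aut_eq` : every automorphism is an inner one, times a power of the exceptional graph automorphism (characteristic
  two), times a field automorphism;
* `pair_field`, `pair_graph` : for `β` a field automorphism, or a graph automorphism times a field automorphism, there is
  a pair `p ∈ Inn`, `q ∈ Inn β` with `Inn ≤ ⟨p, q⟩`.
-/

set_option autoImplicit false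

namespace Cfsg.Agent.H95.DG.F4

open scoped Pointwise
open Cfsg Cfsg.Lie Cfsg.Agent.ChevalleyStructure.Elts Cfsg.Agent.Schreier.ChevLocal
open Cfsg.Agent.H70.ChevFix Cfsg.Agent.H70.ChevField Cfsg.Agent.H70.OutCount Cfsg.Agent.H135.TwoG
open Cfsg.Agent.H69.OutGF Cfsg.Agent.H95.DG.Mono

universe u

theorem hD : InList chevF4 := by simp

variable {F : Type u} [Field F]

/-- The Chevalley group `F₄(F)` -/
abbrev K (F : Type u) [Field F] : Type u := ↥(chevF4.group F)

/-- the values of a field automorphism -/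
def IsField (α : MulAut (K F)) (τ : F ≃+* F) : Prop := ∀ r < 48, ∀ t : F, α (xe hD r t) = xe hD r (τ t)

theorem exists_isField (τ : F ≃+* F) : ∃ α : MulAut (K F), IsField α τ := exists_fieldAut hD τ

/-- the exceptional permutation of the roots -/
def bar (r : ℕ) : ℕ := [3, 7, 8, 0, 9, 11, 18, 1, 2, 4, 15, 5, 16, 21, 23, 10, 12, 19, 6, 17, 22, 13, 20, 14, 33, 27, 34,
  25, 30, 41, 28, 35, 37, 24, 26, 31, 42, 32, 43, 45, 46, 29, 36, 38, 47, 39, 40, 44].getD r 0

/-- the exponents -/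
def lam (r : ℕ) : ℕ := [1, 1, 1, 2, 1, 1, 1, 2, 2, 2, 2, 2, 2, 2, 2, 1, 1, 1, 2, 2, 2, 1, 1, 1, 1, 1, 1, 2, 2, 2, 1, 1,
  1, 2, 2, 2, 2, 2, 2, 2, 2, 1, 1, 1, 2, 1, 1, 1].getD r 0

/-- the values of the exceptional graph automorphism -/
def IsGraph (ρ : MulAut (K F)) : Prop := ∀ r < 48, ∀ t : F, ρ (xe hD r t) = xe hD (bar r) (t ^ lam r)

theorem exists_isGraph [Finite F] [CharP F 2] : ∃ ρ : MulAut (K F), IsGraph ρ := by
  have : Fact (Nat.Prime 2) := ⟨Nat.prime_two⟩
  obtain ⟨α, hα⟩ := Cfsg.Agent.ChevalleyStructure.GraphF4.exists_graph (K := F) (hperf 2)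
  refine ⟨α, fun r hr t => ?_⟩
  exact eq_xe hD (hα (xe hD r t) r t hr (coe_coe_xe hD r t))

/-! ### the torus -/

theorem cartan_simple : ∀ i < 4, ∀ j < 4, chevF4.cartan i (chevF4.simple j) =
    (([[2, -1, 0, 0], [-1, 2, -2, 0], [0, -1, 2, -1], [0, 0, -1, 2]] : List (List ℤ)).getD i []).getD j 0 := by
  decide +kernel

theorem cartan_neg_simple : ∀ i < 4, ∀ j < 4, chevF4.cartan i (chevF4.neg (chevF4.simple j)) =
    - (([[2, -1, 0, 0], [-1, 2, -2, 0], [0, -1, 2, -1], [0, 0, -1, 2]] : List (List ℤ)).getD i []).getD j 0 := by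
  decide +kernel

/-- a product of the `h`'s -/
theorem prod_conj (m : Fin 4 → Fˣ) {s : ℕ} (hs : s < 48) (t : F) :
    (he hD (chevF4.simple 0) (m 0 : F) * he hD (chevF4.simple 1) (m 1 : F) * he hD (chevF4.simple 2) (m 2 : F) *
        he hD (chevF4.simple 3) (m 3 : F)) * xe hD s t *
      (he hD (chevF4.simple 0) (m 0 : F) * he hD (chevF4.simple 1) (m 1 : F) * he hD (chevF4.simple 2) (m 2 : F) *
        he hD (chevF4.simple 3) (m 3 : F))⁻¹ =
      xe hD s (((m 0 ^ chevF4.cartan 0 s * m 1 ^ chevF4.cartan 1 s * m 2 ^ chevF4.cartan 2 s *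
        m 3 ^ chevF4.cartan 3 s : Fˣ) : F) * t) := by
  set a := he hD (chevF4.simple 0) (m 0 : F)
  set b := he hD (chevF4.simple 1) (m 1 : F)
  set c := he hD (chevF4.simple 2) (m 2 : F)
  set d := he hD (chevF4.simple 3) (m 3 : F)
  calc (a * b * c * d) * xe hD s t * (a * b * c * d)⁻¹ = a * (b * (c * (d * xe hD s t * d⁻¹) * c⁻¹) * b⁻¹) * a⁻¹ := by
        group
    _ = _ := by
      rw [he_conj hD (by decide : 3 < chevF4.rank) hs (m 3).ne_zero, he_conj hD (by decide : 2 < chevF4.rank) hs (m 2).ne_zero,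
        he_conj hD (by decide : 1 < chevF4.rank) hs (m 1).ne_zero, he_conj hD (by decide : 0 < chevF4.rank) hs (m 0).ne_zero]
      congr 1
      push_cast
      ring

/-- the solution of the equations for the torus element -/
theorem solve {G : Type*} [CommGroup G] (c : Fin 4 → G) (m : Fin 4 → G)
    (hm0 : m 0 = c 0 ^ 2 * c 1 ^ 3 * c 2 ^ 2 * c 3) (hm1 : m 1 = c 0 ^ 3 * c 1 ^ 6 * c 2 ^ 4 * c 3 ^ 2)
    (hm2 : m 2 = c 0 ^ 4 * c 1 ^ 8 * c 2 ^ 6 * c 3 ^ 3) (hm3 : m 3 = c 0 ^ 2 * c 1 ^ 4 * c 2 ^ 3 * c 3 ^ 2)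
    (A : ℕ → ℕ → ℤ) (hA : ∀ i < 4, ∀ j < 4, A i j =
      (([[2, -1, 0, 0], [-1, 2, -2, 0], [0, -1, 2, -1], [0, 0, -1, 2]] : List (List ℤ)).getD i []).getD j 0)
    (i : Fin 4) : m 0 ^ A 0 i * m 1 ^ A 1 i * m 2 ^ A 2 i * m 3 ^ A 3 i = c i := by
  rw [hA 0 (by decide) i i.2, hA 1 (by decide) i i.2, hA 2 (by decide) i i.2, hA 3 (by decide) i i.2, hm0, hm1, hm2, hm3]
  apply Additive.ofMul.injective
  fin_cases i <;>
  · simp only [ofMul_mul, ofMul_zpow, ofMul_pow]
    simp only [_root_.Int.reduceNeg, _root_.List.getD_eq_getElem?_getD, _root_.List.length_cons, _root_.List.length_nil, _root_.zero_add, _root_.Nat.reduceAdd, _root_.Nat.ofNat_pos, _root_.getElem?_pos, _root_.List.getElem_cons_zero, _root_.Option.getD_some, _root_.Fin.isValue, _root_.smul_add, _root_.Nat.one_lt_ofNat, _root_.List.getElem_cons_succ, _root_.neg_smul, _root_.one_smul, _root_.Nat.reduceLT, _root_.zero_smul, _root_.add_zero, _root_.Nat.lt_add_one, _root_.Fin.zero_eta,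 _root_.Fin.mk_one, _root_.Fin.reduceFinMk]
    module

theorem exists_torus (c : Fin 4 → Fˣ) : ∃ h : K F,
    (∀ (i : Fin 4) (t : F), h * xe hD (chevF4.simple i) t * h⁻¹ = xe hD (chevF4.simple i) ((c i : F) * t)) ∧
    (∀ (i : Fin 4) (t : F), h * xe hD (chevF4.neg (chevF4.simple i)) t * h⁻¹ =
      xe hD (chevF4.neg (chevF4.simple i)) ((c i : F)⁻¹ * t)) := by
  let m : Fin 4 → Fˣ := ![c 0 ^ 2 * c 1 ^ 3 * c 2 ^ 2 * c 3, c 0 ^ 3 * c 1 ^ 6 * c 2 ^ 4 * c 3 ^ 2,
    c 0 ^ 4 * c 1 ^ 8 * c 2 ^ 6 * c 3 ^ 3, c 0 ^ 2 * c 1 ^ 4 * c 2 ^ 3 * c 3 ^ 2]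
  refine ⟨he hD (chevF4.simple 0) (m 0 : F) * he hD (chevF4.simple 1) (m 1 : F) * he hD (chevF4.simple 2) (m 2 : F) *
      he hD (chevF4.simple 3) (m 3 : F), fun i t => ?_, fun i t => ?_⟩
  · rw [prod_conj m (Cfsg.Agent.S1042.simple_lt hD i.2)]
    congr 3
    exact solve c m rfl rfl rfl rfl (fun i j => chevF4.cartan i (chevF4.simple j)) cartan_simple i
  · rw [prod_conj m (neg_simple_lt hD i.2), ← Units.val_inv_eq_inv_val]
    congr 3
    have h1 := solve c m rfl rfl rfl rfl (fun i j => chevF4.cartan i (chevF4.simple j)) cartan_simple i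
    rw [← h1, cartan_neg_simple 0 (by decide) i i.2, cartan_neg_simple 1 (by decide) i i.2,
      cartan_neg_simple 2 (by decide) i i.2, cartan_neg_simple 3 (by decide) i i.2, mul_inv, mul_inv, mul_inv,
      ← zpow_neg, ← zpow_neg, ← zpow_neg, ← zpow_neg, cartan_simple 0 (by decide) i i.2,
      cartan_simple 1 (by decide) i i.2, cartan_simple 2 (by decide) i i.2, cartan_simple 3 (by decide) i i.2]

/-! ### the automorphisms -/

theorem bar_simple : ∀ i < 4, bar (chevF4.simple i) = chevF4.simple (3 - i) ∧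
    bar (chevF4.neg (chevF4.simple i)) = chevF4.neg (chevF4.simple (3 - i)) := by decide +kernel

theorem flip4_val : ∀ i : Fin 4, ((flip4' i : Fin 4) : ℕ) = 3 - i := by decide

theorem lam_eq : ∀ r < 48, lam r = 1 ∨ lam r = 2 := by decide +kernel

theorem bar_bar : ∀ r < 48, bar (bar r) = r ∧ lam r * lam (bar r) = 2 ∧ bar r < 48 := by decide +kernel

theorem lam_surj [Finite F] [CharP F 2] {r : ℕ} (hr : r < 48) : Function.Surjective (fun t : F => t ^ lam r) := by
  have : Fact (Nat.Prime 2) := ⟨Nat.prime_two⟩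
  rcases lam_eq r hr with h | h
  · rw [h]
    intro x
    exact ⟨x, pow_one x⟩
  · rw [h]
    exact hperf 2

theorem IsGraph.perm [Finite F] [CharP F 2] {ρ : MulAut (K F)} (h : IsGraph ρ) : Perm chevF4 F ρ flip4 := by
  refine ⟨fun i => ?_, fun i => ?_⟩
  · have e : ((flip4 i : Fin chevF4.rank) : ℕ) = 3 - (i : ℕ) := flip4_val i
    have hi : chevF4.simple i < 48 := Cfsg.Agent.S1042.simple_lt hD i.2
    rw [e, ← (bar_simple i i.2).1]
    exact smul_XX hD (φ := ρ) (lam_surj hi) fun t => h _ hi t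
  · have e : ((flip4 i : Fin chevF4.rank) : ℕ) = 3 - (i : ℕ) := flip4_val i
    have hi : chevF4.neg (chevF4.simple i) < 48 := neg_simple_lt hD i.2
    rw [e, ← (bar_simple i i.2).2]
    exact smul_XX hD (φ := ρ) (lam_surj hi) fun t => h _ hi t

/-- the automorphisms fixing the root subgroups -/
theorem eq_of_perm_one {φ : MulAut (K F)} (hφ : Perm chevF4 F φ 1) :
    ∃ (h : K F) (τ : F ≃+* F) (α : MulAut (K F)), IsField α τ ∧ φ = MulAut.conj h * α := by
  obtain ⟨c, σ, hc, h3, h4, h5⟩ := exists_field hD hφ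
  obtain ⟨τ, hτ⟩ := sigma_eq hD (σ := σ) h5
  obtain ⟨α, hα⟩ := exists_isField τ
  obtain ⟨h, k1, k2⟩ := exists_torus (F := F) (fun i : Fin 4 => Units.mk0 (c i) (hc i))
  refine ⟨h, τ, α, hα, ?_⟩
  apply ext_values hD
  · intro i t
    have hi : chevF4.simple i < 48 := Cfsg.Agent.S1042.simple_lt hD i.2
    rw [h3, hτ, MulAut.mul_apply, MulAut.conj_apply, hα _ hi]
    exact (k1 i (τ t)).symm
  · intro i t
    have hi : chevF4.neg (chevF4.simple i) < 48 := neg_simple_lt hD i.2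
    rw [h4, hτ, MulAut.mul_apply, MulAut.conj_apply, hα _ hi]
    exact (k2 i (τ t)).symm

/-- **The automorphisms of `F₄(q)`.** -/
theorem aut_eq [Finite F] (ψ : MulAut (K F)) :
    ∃ (g : K F) (τ : F ≃+* F) (α : MulAut (K F)), IsField α τ ∧
      (ψ = MulAut.conj g * α ∨ (CharP F 2 ∧ ∃ ρ : MulAut (K F), IsGraph ρ ∧ ψ = MulAut.conj g * (ρ * α))) := by
  obtain ⟨x, π, -, -, h1, h2⟩ := exists_conj_perm (F := F) hD ψ
  have hφ : Perm chevF4 F (MulAut.conj x * ψ) π := ⟨h1, h2⟩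
  rcases realised_F4 (F := F) (π := π) ⟨_, hφ⟩ with rfl | rfl
  · obtain ⟨h, τ, α, hα, e⟩ := eq_of_perm_one hφ
    refine ⟨x⁻¹ * h, τ, α, hα, Or.inl ?_⟩
    rw [map_mul, map_inv, mul_assoc, ← e, inv_mul_cancel_left]
  · have h2 : (2 : F) = 0 := by
      by_contra h2
      exact flip4_not_mem h2 ⟨_, hφ⟩
    have hchar : CharP F 2 := CharTwo.of_one_ne_zero_of_two_eq_zero one_ne_zero h2
    obtain ⟨ρ, hρ⟩ := exists_isGraph (F := F)
    have h3 : Perm chevF4 F (ρ⁻¹ * (MulAut.conj x * ψ)) 1 := by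
      have := hρ.perm.inv.mul hφ
      rwa [inv_mul_cancel] at this
    obtain ⟨h, τ, α, hα, e⟩ := eq_of_perm_one h3
    refine ⟨x⁻¹ * ρ h, τ, α, hα, Or.inr ⟨hchar, ρ, hρ, ?_⟩⟩
    have e2 : MulAut.conj x * ψ = ρ * (MulAut.conj h * α) := by rw [← e, mul_inv_cancel_left]
    have e3 : MulAut.conj (ρ h) = ρ * MulAut.conj h * ρ⁻¹ := (conj_conj ρ h).symm
    rw [map_mul, map_inv, e3]
    calc ψ = (MulAut.conj x)⁻¹ * (MulAut.conj x * ψ) := by group
      _ = _ := by rw [e2]; group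

/-! ### `Out` is cyclic -/

theorem IsField.ext {α β : MulAut (K F)} {τ : F ≃+* F} (h : IsField α τ) (h' : IsField β τ) : α = β := by
  apply ext_values hD
  · intro i t
    have hi : chevF4.simple i < 48 := Cfsg.Agent.S1042.simple_lt hD i.2
    rw [h _ hi, h' _ hi]
  · intro i t
    have hi : chevF4.neg (chevF4.simple i) < 48 := neg_simple_lt hD i.2
    rw [h _ hi, h' _ hi]

theorem IsGraph.ext {α β : MulAut (K F)} (h : IsGraph α) (h' : IsGraph β) : α = β := by
  apply ext_values hD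
  · intro i t
    have hi : chevF4.simple i < 48 := Cfsg.Agent.S1042.simple_lt hD i.2
    rw [h _ hi, h' _ hi]
  · intro i t
    have hi : chevF4.neg (chevF4.simple i) < 48 := neg_simple_lt hD i.2
    rw [h _ hi, h' _ hi]

theorem IsField.mul {α β : MulAut (K F)} {σ τ : F ≃+* F} (h : IsField α σ) (h' : IsField β τ) :
    IsField (α * β) (σ * τ) := by
  intro r hr t
  rw [MulAut.mul_apply, h' r hr, h r hr]
  rfl

theorem IsField.one : IsField (1 : MulAut (K F)) (1 : F ≃+* F) := fun _ _ _ => rfl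

theorem IsField.inv {α : MulAut (K F)} {τ : F ≃+* F} (h : IsField α τ) : IsField α⁻¹ τ⁻¹ := by
  intro r hr t
  rw [MulAut.inv_def, MulEquiv.symm_apply_eq, h r hr]
  congr 1
  exact (τ.apply_symm_apply t).symm

theorem IsField.pow {α : MulAut (K F)} {τ : F ≃+* F} (h : IsField α τ) (n : ℕ) : IsField (α ^ n) (τ ^ n) := by
  induction n with
  | zero => exact IsField.one
  | succ n ih => rw [pow_succ, pow_succ]; exact ih.mul h

theorem IsField.zpow {α : MulAut (K F)} {τ : F ≃+* F} (h : IsField α τ) (n : ℤ) : IsField (α ^ n) (τ ^ n) := by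
  obtain ⟨m, rfl | rfl⟩ := n.eq_nat_or_neg
  · rw [zpow_natCast, zpow_natCast]; exact h.pow m
  · rw [zpow_neg, zpow_natCast, zpow_neg, zpow_natCast]; exact (h.pow m).inv

/-- the Frobenius automorphism -/
noncomputable def frob (F : Type u) [Field F] [Finite F] [CharP F 2] : F ≃+* F :=
  have : Fact (Nat.Prime 2) := ⟨Nat.prime_two⟩
  RingEquiv.ofBijective (frobenius F 2) ⟨frobenius_inj F 2, Finite.injective_iff_surjective.1 (frobenius_inj F 2)⟩

theorem frob_apply [Finite F] [CharP F 2] (t : F) : frob F t = t ^ 2 := rfl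

theorem IsGraph.sq [Finite F] [CharP F 2] {ρ : MulAut (K F)} (h : IsGraph ρ) : IsField (ρ ^ 2) (frob F) := by
  intro r hr t
  obtain ⟨h1, h2, h3⟩ := bar_bar r hr
  rw [pow_two, MulAut.mul_apply, h r hr, h _ h3, h1, ← pow_mul, h2, frob_apply]

theorem exists_frob_pow [Finite F] [CharP F 2] (τ : F ≃+* F) : ∃ n : ℕ, τ = frob F ^ n := by
  have : Fact (Nat.Prime 2) := ⟨Nat.prime_two⟩
  let _ : Algebra (ZMod 2) F := ZMod.algebra F 2
  let τ' : F ≃ₐ[ZMod 2] F := AlgEquiv.ofRingEquiv (f := τ) (by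
    intro x
    have : (τ : F →+* F).comp (algebraMap (ZMod 2) F) = algebraMap (ZMod 2) F := Subsingleton.elim _ _
    exact RingHom.congr_fun this x)
  obtain ⟨n, hn⟩ := (FiniteField.bijective_frobeniusAlgEquivOfAlgebraic_pow (ZMod 2) F).2 τ'
  refine ⟨n, RingEquiv.ext fun x => ?_⟩
  have h1 : τ x = (FiniteField.frobeniusAlgEquivOfAlgebraic (ZMod 2) F ^ (n : ℕ)) x :=
    (DFunLike.congr_fun hn x).symm
  rw [h1]
  have h2 : ∀ (m : ℕ) (x : F), (FiniteField.frobeniusAlgEquivOfAlgebraic (ZMod 2) F ^ m) x = (frob F ^ m) x := by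
    intro m
    induction m with
    | zero => intro x; rfl
    | succ m ih =>
      intro x
      rw [pow_succ, pow_succ]
      show (FiniteField.frobeniusAlgEquivOfAlgebraic (ZMod 2) F ^ m) (FiniteField.frobeniusAlgEquivOfAlgebraic (ZMod 2) F x) =
        (frob F ^ m) (frob F x)
      rw [ih, frob_apply]
      rw [FiniteField.coe_frobeniusAlgEquivOfAlgebraic, ZMod.card]
  exact h2 n x

/-- **`Out(F₄(q))` is cyclic.** -/
theorem exists_gen [Finite F] : ∃ γ : MulAut (K F), ∀ ψ : MulAut (K F), ∃ (g : K F) (n : ℤ),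
    ψ = MulAut.conj g * γ ^ n := by
  by_cases hchar : CharP F 2
  · obtain ⟨ρ, hρ⟩ := exists_isGraph (F := F)
    refine ⟨ρ, fun ψ => ?_⟩
    obtain ⟨g, τ, α, hα, h⟩ := aut_eq ψ
    obtain ⟨n, rfl⟩ := exists_frob_pow τ
    have h1 : α = ρ ^ (2 * n) := by
      rw [pow_mul]
      exact hα.ext (hρ.sq.pow n)
    rcases h with rfl | ⟨-, ρ', hρ', rfl⟩
    · exact ⟨g, (2 * n : ℕ), by rw [zpow_natCast, h1]⟩
    · refine ⟨g, (1 + 2 * n : ℕ), ?_⟩
      rw [zpow_natCast, pow_add, pow_one, h1, hρ'.ext hρ]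
  · have hcyc : IsCyclic (F ≃+* F) := LieRecognition.FieldSemilinear.isCyclic_ringAut F
    obtain ⟨τ, hτ⟩ := IsCyclic.exists_generator (α := F ≃+* F)
    obtain ⟨α, hα⟩ := exists_isField τ
    refine ⟨α, fun ψ => ?_⟩
    obtain ⟨g, σ, β, hβ, h⟩ := aut_eq ψ
    rcases h with rfl | ⟨h, -⟩
    · obtain ⟨n, rfl⟩ := hτ σ
      exact ⟨g, n, by rw [hβ.ext (hα.zpow n)]⟩
    · exact absurd h hchar

instance isCyclic_out [Finite F] : IsCyclic (Cfsg.Out (K F)) := by
  obtain ⟨γ, hγ⟩ := exists_gen (F := F)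
  refine ⟨⟨QuotientGroup.mk γ, fun x => ?_⟩⟩
  obtain ⟨ψ, rfl⟩ := QuotientGroup.mk_surjective x
  obtain ⟨g, n, rfl⟩ := hγ ψ
  refine ⟨n, ?_⟩
  show (QuotientGroup.mk γ : Cfsg.Out (K F)) ^ n = _
  rw [QuotientGroup.mk_mul, ← QuotientGroup.mk_zpow]
  have : (QuotientGroup.mk (MulAut.conj g) : Cfsg.Out (K F)) = 1 := by
    rw [QuotientGroup.eq_one_iff]
    exact ⟨g, rfl⟩
  rw [this, one_mul]

/-! ### the pairs -/

theorem exists_gen_ne_one [Finite F] (hq : ∃ x : F, x ≠ 0 ∧ x ≠ 1) :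
    ∃ k : Fˣ, (∀ x : Fˣ, x ∈ Subgroup.zpowers k) ∧ (k : F) ≠ 1 := by
  obtain ⟨k, hk'⟩ := IsCyclic.exists_generator (α := Fˣ)
  refine ⟨k, hk', ?_⟩
  intro h0
  obtain ⟨x, hx0, hx1⟩ := hq
  have hk2 : k = 1 := Units.ext h0
  obtain ⟨n, hn⟩ := hk' (Units.mk0 x hx0)
  have hn' : k ^ n = Units.mk0 x hx0 := hn
  rw [hk2, one_zpow] at hn'
  exact hx1 (congrArg Units.val hn').symm

theorem coprime_card_units [Finite F] {p : ℕ} (hp : p.Prime) [CharP F p] : Nat.Coprime (Nat.card Fˣ) p := by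
  have : Fintype F := Fintype.ofFinite F
  rw [Nat.card_units, Nat.card_eq_fintype_card]
  have h3 : p ∣ Fintype.card F := (CharP.cast_eq_zero_iff F p _).1 (Nat.cast_card_eq_zero F)
  have h4 : 0 < Fintype.card F := Fintype.card_pos
  refine Nat.Coprime.symm ((Nat.Prime.coprime_iff_not_dvd hp).2 fun h5 => ?_)
  have h6 : p ∣ 1 := by
    have := Nat.dvd_sub h3 h5
    have e : Fintype.card F - (Fintype.card F - 1) = 1 := by omega
    rwa [e] at this
  exact hp.one_lt.ne' (Nat.dvd_one.1 h6)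

theorem he_pow {i : ℕ} (hi : i < 4) (k : Fˣ) : he hD (chevF4.simple i) (k : F) ^ Nat.card Fˣ = 1 := by
  apply Subtype.ext
  rw [SubmonoidClass.coe_pow, coe_he, hG_eq_hh hD hi, ← map_pow, pow_card_eq_one', map_one]
  rfl

/-- the word and the field automorphism -/
theorem pair_field [Finite F] (hq : ∃ x : F, x ≠ 0 ∧ x ≠ 1) {α : MulAut (K F)} {τ : F ≃+* F} (hα : IsField α τ) :
    ∃ (p : MulAut (K F)) (g : K F), p ∈ Cfsg.Inn (K F) ∧ Cfsg.Inn (K F) ≤ Subgroup.closure {p, MulAut.conj g * α} := by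
  obtain ⟨k, hk, hk1⟩ := exists_gen_ne_one hq
  obtain ⟨p, hp⟩ := CharP.exists F
  have hpp : Nat.Prime p := (CharP.char_is_prime_or_zero F p).resolve_right (CharP.char_ne_zero_of_finite F p)
  obtain ⟨c, -, hw⟩ := isMono_word (F := F) hD (l := [0, 1, 2, 3]) (by decide +kernel)
    (W := wT Cfsg.Agent.ChevalleyStructure.W0Small.tabF4 [0, 1, 2, 3])
    (wT_eq hD Cfsg.Agent.ChevalleyStructure.W0Small.tabF4_ok (by decide +kernel))
  have hY := hw.mul (isMono_field (hD := hD) hα)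
  have hH := isDiag_he (F := F) hD (i := 0) (by decide) k
  refine ⟨MulAut.conj (he hD (chevF4.simple 0) (k : F)) * MulAut.conj (xe hD 21 (1 : F)),
    xe hD 7 (1 : F) * we hD F [0, 1, 2, 3], mul_mem ⟨_, rfl⟩ ⟨_, rfl⟩, ?_⟩
  have c7 : chevF4.cartan 0 7 = 1 := by decide +kernel
  have c3 : chevF4.cartan 0 3 = -1 := by decide +kernel
  have c21 : chevF4.cartan 0 21 = 0 := by decide +kernel
  have c15 : chevF4.cartan 0 15 = 2 := by decide +kernel
  refine range_le_of_pair' hH hY (a := 7) (a' := 3) (b := 21) (b' := 15) (by decide) (by decide +kernel) (by decide)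
    (by decide +kernel) ?_ ?_ ?_ ?_ ?_ (N := Nat.card Fˣ) (p := p) ?_ (CharP.cast_eq_zero F p) (coprime_card_units hpp)
    (steps := bigStepsF4) (by decide +kernel) (Subgroup.subset_closure (by simp only [_root_.map_mul, _root_.Set.mem_insert_iff, _root_.Set.mem_singleton_iff, _root_.true_or])) (Subgroup.subset_closure ?_)
  · show Irr ((k : F) ^ chevF4.cartan 0 7)
    rw [c7]; exact irr_zpow hk (by simp)
  · show (k : F) ^ chevF4.cartan 0 7 ≠ 1
    rw [c7, zpow_one]; exact hk1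
  · show (k : F) ^ chevF4.cartan 0 3 ≠ 1
    rw [c3, zpow_neg, zpow_one]
    exact fun h => hk1 (inv_eq_one.1 h)
  · show (k : F) ^ chevF4.cartan 0 21 = 1
    rw [c21, zpow_zero]
  · show Irr ((k : F) ^ chevF4.cartan 0 15)
    rw [c15]; exact irr_zpow hk (by simp)
  · rw [← map_pow, he_pow (by decide), map_one]
  · right
    rw [Set.mem_singleton_iff, map_mul, mul_assoc]

/-- closure steps, type F4, characteristic two, exceptional graph automorphism -/
def graphSteps : List (ℕ × ℕ) :=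
  [(2, 2), (3, 3), (0, 0), (7, 7), (1, 1), (8, 8), (15, 15), (19, 19), (22, 22), (34, 34), (42, 42), (38, 38), (45, 45),
    (44, 44), (47, 47), (40, 40), (46, 46), (39, 39), (32, 32), (28, 28), (25, 25), (13, 13), (5, 5), (0, 45), (21, 21),
    (33, 33), (24, 24), (27, 27), (41, 41), (36, 36), (31, 31), (37, 37), (43, 43), (29, 29), (30, 30), (35, 35),
    (26, 26), (14, 14), (23, 23), (20, 20), (6, 6), (11, 11), (16, 16), (10, 10), (4, 4), (18, 18), (17, 17)]

/-- the action of the word times the graph automorphism -/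
abbrev BG (r : ℕ) : ℕ := wT Cfsg.Agent.ChevalleyStructure.W0Small.tabF4 [0, 1] (bar r)

theorem run_graph : run chevF4 BG (1 <<< 2) graphSteps = 2 ^ chevF4.nroots - 1 := by decide +kernel

theorem isMono_graph [Finite F] [CharP F 2] {ρ : MulAut (K F)} (h : IsGraph ρ) :
    IsMono hD ρ bar (fun _ => 1) (fun r => if lam r = 1 then RingEquiv.refl F else frob F) where
  lt r hr := (bar_bar r hr).2.2
  surj r hr := ⟨bar r, (bar_bar r hr).2.2, (bar_bar r hr).1⟩
  ne _ _ := one_ne_zero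
  val r hr t := by
    rw [h r hr, one_mul]
    rcases lam_eq r hr with h1 | h1
    · rw [if_pos h1, h1, pow_one]; rfl
    · rw [if_neg (by omega), h1, frob_apply]

theorem pair_graph [Finite F] [CharP F 2] {ρ α : MulAut (K F)} {τ : F ≃+* F} (hρ : IsGraph ρ) (hα : IsField α τ) :
    ∃ (p : MulAut (K F)) (g : K F), p ∈ Cfsg.Inn (K F) ∧
      Cfsg.Inn (K F) ≤ Subgroup.closure {p, MulAut.conj g * (ρ * α)} := by
  obtain ⟨c, -, hw⟩ := isMono_word (F := F) hD (l := [0, 1]) (by decide +kernel)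
    (W := wT Cfsg.Agent.ChevalleyStructure.W0Small.tabF4 [0, 1])
    (wT_eq hD Cfsg.Agent.ChevalleyStructure.W0Small.tabF4_ok (by decide +kernel))
  have hY := hw.mul ((isMono_graph hρ).mul (isMono_field (hD := hD) hα))
  by_cases hq : ∃ x : F, x ≠ 0 ∧ x ≠ 1
  · obtain ⟨k, hk, hk1⟩ := exists_gen_ne_one hq
    have hH := isDiag_he (F := F) hD (i := 2) (by decide) k
    have c2 : chevF4.cartan 2 2 = 1 := by decide +kernel
    have c9 : chevF4.cartan 2 9 = 1 := by decide +kernel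
    refine ⟨MulAut.conj (he hD (chevF4.simple 2) (k : F)), xe hD 2 (1 : F) * we hD F [0, 1], ⟨_, rfl⟩, ?_⟩
    refine range_le_of_pair hH hY (a := 2) (a' := 9) (by decide) (by decide +kernel) ?_ ?_ ?_ (steps := graphSteps)
      run_graph (Subgroup.subset_closure (by simp)) (Subgroup.subset_closure ?_)
    · show Irr ((k : F) ^ chevF4.cartan 2 2)
      rw [c2]; exact irr_zpow hk (by simp)
    · show (k : F) ^ chevF4.cartan 2 2 ≠ 1
      rw [c2, zpow_one]; exact hk1
    · show (k : F) ^ chevF4.cartan 2 9 ≠ 1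
      rw [c9, zpow_one]; exact hk1
    · right
      rw [Set.mem_singleton_iff, map_mul, mul_assoc]
  · -- the field with two elements
    push Not at hq
    have hF : ∀ x : F, x = 0 ∨ x = 1 := fun x => or_iff_not_imp_left.2 (hq x)
    refine ⟨MulAut.conj (xe hD 2 (1 : F)), we hD F [0, 1], ⟨_, rfl⟩, ?_⟩
    refine range_le_of_run hY (Subgroup.subset_closure (by simp only [_root_.Set.mem_insert_iff, _root_.Set.mem_singleton_iff, _root_.or_true])) (S := 1 <<< 2) ?_ run_graph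
    intro k hk t
    rw [Nat.one_shiftLeft, Nat.testBit_two_pow] at hk
    have : 2 = k := by simpa using hk
    subst this
    rcases hF t with rfl | rfl
    · rw [xe_zero, map_one]; exact one_mem _
    · exact Subgroup.subset_closure (by simp)

/-- the field with two elements, no outer automorphism -/
theorem pair_two [CharP F 2] (hF : ∀ x : F, x = 0 ∨ x = 1) :
    ∃ (p : MulAut (K F)) (g : K F), p ∈ Cfsg.Inn (K F) ∧ Cfsg.Inn (K F) ≤ Subgroup.closure {p, MulAut.conj g} := by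
  obtain ⟨a, b, h⟩ := H136.TwoGen.of_ambient _ (twoF4 hF)
  refine ⟨MulAut.conj a, b, ⟨_, rfl⟩, ?_⟩
  have h1 := congrArg (Subgroup.map MulAut.conj) h
  rw [MonoidHom.map_closure, Set.image_pair, ← MonoidHom.range_eq_map] at h1
  exact h1.ge

/-- **The pairs, for all automorphisms.** -/
theorem exists_pair [Finite F] (ψ : MulAut (K F)) : ∃ p ∈ Cfsg.Inn (K F), ∃ n ∈ Cfsg.Inn (K F),
    Cfsg.Inn (K F) ≤ Subgroup.closure {p, n * ψ} := by
  obtain ⟨g0, τ, α, hα, h⟩ := aut_eq ψ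
  have key : ∀ β : MulAut (K F), ψ = MulAut.conj g0 * β →
      (∃ (p : MulAut (K F)) (g : K F), p ∈ Cfsg.Inn (K F) ∧ Cfsg.Inn (K F) ≤ Subgroup.closure {p, MulAut.conj g * β}) →
      ∃ p ∈ Cfsg.Inn (K F), ∃ n ∈ Cfsg.Inn (K F), Cfsg.Inn (K F) ≤ Subgroup.closure {p, n * ψ} := by
    rintro β rfl ⟨p, g, hp, h⟩
    refine ⟨p, hp, MulAut.conj (g * g0⁻¹), ⟨_, rfl⟩, ?_⟩
    rwa [← mul_assoc, ← map_mul, inv_mul_cancel_right]
  rcases h with h | ⟨hchar, ρ, hρ, h⟩
  · refine key α h ?_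
    by_cases hq : ∃ x : F, x ≠ 0 ∧ x ≠ 1
    · exact pair_field hq hα
    · push Not at hq
      have hF : ∀ x : F, x = 0 ∨ x = 1 := fun x => or_iff_not_imp_left.2 (hq x)
      have h2 : (2 : F) = 0 := by
        rcases hF 2 with h | h
        · exact h
        · exfalso
          have : (1 : F) = 0 := by linear_combination h
          exact one_ne_zero this
      have hchar : CharP F 2 := CharTwo.of_one_ne_zero_of_two_eq_zero one_ne_zero h2
      have hτ : IsField (1 : MulAut (K F)) τ := by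
        intro r hr t
        rcases hF t with rfl | rfl
        · rw [map_zero]; rfl
        · rw [map_one]; rfl
      rw [hα.ext hτ]
      obtain ⟨p, g, hp, h⟩ := pair_two (F := F) hF
      exact ⟨p, g, hp, by rwa [mul_one]⟩
  · exact key _ h (pair_graph hρ hα)

end Cfsg.Agent.H95.DG.F4
end

private theorem dce_c229ecb52955 : _root_.True := by
  try have : _root_.True := by simp only [_root_.Cfsg.Agent.H95.DG.Mono.we.congr_simp]
  exact _root_.True.intro
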